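import Mathlib

/-!
Groups in which every noncentral element has a maximal centralizer.
-/

namespace CfsgLib.CentMax

open scoped Pointwise

set_option linter.style.haveILetI false

variable {G : Type*} [Group G]


theorem mem_cent {g y : G} : g ∈ Subgroup.centralizer ({y} : Set G) ↔ g * y = y * g :=
  Subgroup.mem_centralizer_singleton_iff

theorem center_le_cent (y : G) : Subgroup.center G ≤ Subgroup.centralizer ({y} : Set G) := fun _ hz =>
  mem_cent.mpr (Subgroup.mem_center_iff.mp hz y).symm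

theorem cent_conj (g y : G) :
    Subgroup.centralizer ({g * y * g⁻¹} : Set G) = MulAut.conj g • Subgroup.centralizer ({y} : Set G) := by
  ext x
  rw [Subgroup.mem_pointwise_smul_iff_inv_smul_mem, mem_cent, mem_cent]
  simp only [MulAut.smul_def, MulAut.conj_inv_apply]
  constructor
  · intro h
    calc g⁻¹ * x * g * y = g⁻¹ * (x * (g * y * g⁻¹)) * g := by group
      _ = g⁻¹ * (g * y * g⁻¹ * x) * g := by rw [h]
      _ = y * (g⁻¹ * x * g) := by group
  · intro h
    calc x * (g * y * g⁻¹) = g * (g⁻¹ * x * g * y) * g⁻¹ := by group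
      _ = g * (y * (g⁻¹ * x * g)) * g⁻¹ := by rw [h]
      _ = g * y * g⁻¹ * x := by group

/-- The hypothesis. -/
def AllMax (G : Type*) [Group G] : Prop :=
  ∀ g : G, g ∉ Subgroup.center G → IsCoatom (Subgroup.centralizer ({g} : Set G))

variable (h : AllMax G)
include h

theorem cent_eq {M : Subgroup G} {x y : G} (hx : x ∉ Subgroup.center G)
    (hM : M = Subgroup.centralizer ({x} : Set G)) (hy : y ∉ Subgroup.center G)
    (hle : M ≤ Subgroup.centralizer ({y} : Set G)) : Subgroup.centralizer ({y} : Set G) = M := by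
  have hc : IsCoatom M := hM ▸ h x hx
  exact (hc.le_iff.mp hle).resolve_left fun ht => hy (Subgroup.mem_center_iff.mpr fun g =>
    mem_cent.mp (ht ▸ Subgroup.mem_top g))

theorem cent_eq_iff {M : Subgroup G} {x y : G} (hx : x ∉ Subgroup.center G)
    (hM : M = Subgroup.centralizer ({x} : Set G)) (hy : y ∉ Subgroup.center G) :
    Subgroup.centralizer ({y} : Set G) = M ↔ y ∈ Subgroup.centralizer (M : Set G) := by
  constructor
  · rintro rfl
    exact Subgroup.mem_centralizer_iff.mpr fun g hg => mem_cent.mp hg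
  · intro hyA
    exact cent_eq h hx hM hy fun g hg => mem_cent.mpr (Subgroup.mem_centralizer_iff.mp hyA g hg)

theorem cent_eq_of_coprime {b c : G} (hbc : Commute b c) (hb : b ∉ Subgroup.center G)
    (hc : c ∉ Subgroup.center G) {i j : ℕ} (hij : Nat.Coprime i j) (hi : b ^ i ∈ Subgroup.center G)
    (hj : c ^ j ∈ Subgroup.center G) :
    Subgroup.centralizer ({b} : Set G) = Subgroup.centralizer ({c} : Set G) := by
  have key : ∀ b c : G, Commute b c → ∀ i j : ℕ, Nat.Coprime i j → b ^ i ∈ Subgroup.center G →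
      c ^ j ∈ Subgroup.center G →
      Subgroup.centralizer ({b * c} : Set G) ≤ Subgroup.centralizer ({b} : Set G) := by
    intro b c hbc i j hij hi hj g hg
    have hgu : Commute g (b * c) := mem_cent.mp hg
    obtain ⟨s, t, hst⟩ := Nat.Coprime.isCoprime hij
    have hgi : Commute g (b ^ i) := Subgroup.mem_center_iff.mp hi g
    have hgj : Commute g (c ^ j) := Subgroup.mem_center_iff.mp hj g
    have hb : b = (b ^ i) ^ s * ((b * c) ^ ((j : ℤ) * t) * ((c ^ j) ^ t)⁻¹) := by
      have e1 : (c ^ j) ^ t = c ^ ((j : ℤ) * t) := by rw [← zpow_natCast, ← zpow_mul]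
      rw [e1, hbc.mul_zpow, mul_inv_cancel_right, ← zpow_natCast b, ← zpow_mul, ← zpow_add]
      conv_lhs => rw [← zpow_one b, ← hst]
      congr 1
      ring
    rw [mem_cent]
    show Commute g b
    rw [hb]
    exact (hgi.zpow_right s).mul_right ((hgu.zpow_right _).mul_right (hgj.zpow_right t).inv_right)
  have h1 := key b c hbc i j hij hi hj
  have h2 := key c b hbc.symm j i hij.symm hj hi
  rw [← hbc.eq] at h2
  have hu : b * c ∉ Subgroup.center G := fun hu => hb (Subgroup.mem_center_iff.mpr fun g =>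
    mem_cent.mp (h1 (mem_cent.mpr (Subgroup.mem_center_iff.mp hu g))))
  rw [cent_eq h hu rfl hb h1, cent_eq h hu rfl hc h2]

omit h in
/-- A `p`-part and a `p'`-part of an element modulo the centre. -/
theorem exists_parts [Finite G] (p : ℕ) [Fact p.Prime] (y : G) : ∃ (y₁ y₂ : G) (a m : ℕ),
    y = y₁ * y₂ ∧ y₁ ∈ Subgroup.zpowers y ∧ y₂ ∈ Subgroup.zpowers y ∧ ¬ p ∣ m ∧
    y₁ ^ p ^ a ∈ Subgroup.center G ∧ y₂ ^ m ∈ Subgroup.center G := by
  set n := orderOf (QuotientGroup.mk y : G ⧸ Subgroup.center G) with hn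
  have hpos : 0 < n := orderOf_pos _
  obtain ⟨a, m, hm, hnm⟩ := Nat.exists_eq_pow_mul_and_not_dvd hpos.ne' p (Fact.out : p.Prime).ne_one
  have hcop : Nat.Coprime (p ^ a) m := ((Fact.out : p.Prime).coprime_iff_not_dvd.mpr hm).pow_left a
  obtain ⟨s, t, hst⟩ := Nat.Coprime.isCoprime hcop
  have hyn : y ^ (n : ℤ) ∈ Subgroup.center G := by
    rw [zpow_natCast, ← QuotientGroup.eq_one_iff, QuotientGroup.mk_pow, hn, pow_orderOf_eq_one]
  refine ⟨y ^ (t * (m : ℤ)), y ^ (s * ((p ^ a : ℕ) : ℤ)), a, m, ?_, ⟨_, rfl⟩, ⟨_, rfl⟩, hm, ?_, ?_⟩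
  · rw [← zpow_add]
    conv_lhs => rw [← zpow_one y, ← hst]
    congr 1
    ring
  · rw [← zpow_natCast, ← zpow_mul,
      show t * (m : ℤ) * ((p ^ a : ℕ) : ℤ) = (n : ℤ) * t by rw [hnm]; push_cast; ring, zpow_mul]
    exact Subgroup.zpow_mem _ hyn t
  · rw [← zpow_natCast, ← zpow_mul,
      show s * ((p ^ a : ℕ) : ℤ) * (m : ℤ) = (n : ℤ) * s by rw [hnm]; push_cast; ring, zpow_mul]
    exact Subgroup.zpow_mem _ hyn s

/-- A centraliser is commutative or a `p`-group modulo the centre. -/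
theorem comm_or_pgroup [Finite G] {M : Subgroup G} {x : G} (hx : x ∉ Subgroup.center G)
    (hM : M = Subgroup.centralizer ({x} : Set G)) :
    (∀ u ∈ M, ∀ v ∈ M, u * v = v * u) ∨
      ∃ p : ℕ, p.Prime ∧ ∀ y ∈ M, ∃ k : ℕ, y ^ p ^ k ∈ Subgroup.center G := by
  set n := orderOf (QuotientGroup.mk x : G ⧸ Subgroup.center G) with hn
  have hn1 : n ≠ 1 := by
    rw [hn, ne_eq, orderOf_eq_one_iff, QuotientGroup.eq_one_iff]
    exact hx
  obtain ⟨p, hp, hpn⟩ := Nat.exists_prime_and_dvd hn1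
  haveI := Fact.mk hp
  have hpow : ∀ e : ℕ, x ^ e ∈ Subgroup.center G ↔ n ∣ e := fun e => by
    rw [← QuotientGroup.eq_one_iff, QuotientGroup.mk_pow, hn, orderOf_dvd_iff_pow_eq_one]
  set b := x ^ (n / p) with hbdef
  have hb : b ∉ Subgroup.center G := fun hb => by
    have := Nat.le_of_dvd (Nat.div_pos (Nat.le_of_dvd (orderOf_pos _) hpn) hp.pos) ((hpow _).mp hb)
    exact absurd (Nat.div_lt_self (orderOf_pos _) hp.one_lt) (not_lt.mpr this)
  have hbp : b ^ p ∈ Subgroup.center G := by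
    rw [hbdef, ← pow_mul, hpow, Nat.div_mul_cancel hpn]
  have hxA : x ∈ Subgroup.centralizer (M : Set G) := (cent_eq_iff h hx hM hx).mp hM.symm
  have hbA : b ∈ Subgroup.centralizer (M : Set G) := Subgroup.pow_mem _ hxA _
  have hbM : Subgroup.centralizer ({b} : Set G) = M := (cent_eq_iff h hx hM hb).mpr hbA
  have step : ∀ y ∈ M, ∀ m : ℕ, ¬ p ∣ m → y ^ m ∈ Subgroup.center G → y ∉ Subgroup.center G →
      Subgroup.centralizer ({y} : Set G) = M := by
    intro y hy m hm hym hyc
    rw [← hbM]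
    exact (cent_eq_of_coprime h (Subgroup.mem_centralizer_iff.mp hbA y hy).symm hb hyc
      (hp.coprime_iff_not_dvd.mpr hm) hbp hym).symm
  by_cases hcase : ∃ c ∈ M, ∃ m : ℕ, ¬ p ∣ m ∧ c ^ m ∈ Subgroup.center G ∧ c ∉ Subgroup.center G
  · obtain ⟨c, hcM, m, hm, hcm, hc⟩ := hcase
    left
    have hcM' := step c hcM m hm hcm hc
    have hcA := (cent_eq_iff h hx hM hc).mp hcM'
    have hall : ∀ y ∈ M, y ∈ Subgroup.centralizer (M : Set G) := by
      intro y hy
      obtain ⟨y₁, y₂, a, m', hy12, hy1, hy2, hm', hy1a, hy2m⟩ := exists_parts p y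
      have hy1M : y₁ ∈ M := (Subgroup.zpowers_le.mpr hy) hy1
      have hy2M : y₂ ∈ M := (Subgroup.zpowers_le.mpr hy) hy2
      have hZA : Subgroup.center G ≤ Subgroup.centralizer (M : Set G) := Subgroup.center_le_centralizer _
      rw [hy12]
      refine Subgroup.mul_mem _ ?_ ?_
      · by_cases h1 : y₁ ∈ Subgroup.center G
        · exact hZA h1
        · refine (cent_eq_iff h hx hM h1).mp ?_
          rw [← hcM']
          exact (cent_eq_of_coprime h (Subgroup.mem_centralizer_iff.mp hcA y₁ hy1M).symm hc h1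
            (((hp.coprime_iff_not_dvd.mpr hm).pow_left a).symm) hcm hy1a).symm
      · by_cases h2 : y₂ ∈ Subgroup.center G
        · exact hZA h2
        · exact (cent_eq_iff h hx hM h2).mp (step y₂ hy2M m' hm' hy2m h2)
    intro u hu v hv
    exact (Subgroup.mem_centralizer_iff.mp (hall u hu) v hv).symm
  · push Not at hcase
    right
    refine ⟨p, hp, fun y hy => ?_⟩
    obtain ⟨y₁, y₂, a, m', hy12, hy1, hy2, hm', hy1a, hy2m⟩ := exists_parts p y
    refine ⟨a, ?_⟩
    have hy2c := hcase y₂ ((Subgroup.zpowers_le.mpr hy) hy2) m' hm' hy2m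
    have hcomm : Commute y₁ y₂ := (Subgroup.mem_center_iff.mp hy2c y₁)
    rw [hy12, hcomm.mul_pow]
    exact Subgroup.mul_mem _ hy1a (Subgroup.pow_mem _ hy2c _)

end CfsgLib.CentMax
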