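import Mathlib
import Cfsg.Agent.Lib.CentMax.Basic
import Cfsg.Agent.Lib.SylowNumber.Basic

/-!
A finite group in which every noncentral element has a maximal centralizer is soluble.
-/

namespace CfsgLib.CentMax

open scoped Pointwise

set_option linter.style.haveILetI false

variable {G : Type*} [Group G] [Finite G]

/-- The preimage of a `p`-group modulo the centre has index a power of `p` over the centre. -/
theorem relIndex_center_eq_pow {M : Subgroup G} {p : ℕ} [Fact p.Prime]
    (hp : ∀ y ∈ M, ∃ k : ℕ, y ^ p ^ k ∈ Subgroup.center G) :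
    ∃ k : ℕ, (Subgroup.center G).relIndex M = p ^ k := by
  haveI : ((Subgroup.center G).subgroupOf M).Normal :=
    Subgroup.normal_subgroupOf_of_le_normalizer (le_top.trans (Subgroup.normalizer_eq_top _).ge)
  have hq : IsPGroup p (M ⧸ (Subgroup.center G).subgroupOf M) := by
    intro q
    obtain ⟨y, rfl⟩ := QuotientGroup.mk_surjective q
    obtain ⟨k, hk⟩ := hp y y.2
    exact ⟨k, by rw [← QuotientGroup.mk_pow, QuotientGroup.eq_one_iff, Subgroup.mem_subgroupOf]; simpa using hk⟩
  exact IsPGroup.iff_card.mp hq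

theorem isNilpotent_of_pgroup_mod_center {M : Subgroup G} {p : ℕ} [Fact p.Prime]
    (hp : ∀ y ∈ M, ∃ k : ℕ, y ^ p ^ k ∈ Subgroup.center G) : Group.IsNilpotent M := by
  haveI : ((Subgroup.center G).subgroupOf M).Normal :=
    Subgroup.normal_subgroupOf_of_le_normalizer (le_top.trans (Subgroup.normalizer_eq_top _).ge)
  have hq : IsPGroup p (M ⧸ (Subgroup.center G).subgroupOf M) := by
    intro q
    obtain ⟨y, rfl⟩ := QuotientGroup.mk_surjective q
    obtain ⟨k, hk⟩ := hp y y.2
    exact ⟨k, by rw [← QuotientGroup.mk_pow, QuotientGroup.eq_one_iff, Subgroup.mem_subgroupOf]; simpa using hk⟩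
  haveI := hq.isNilpotent
  refine Subgroup.isNilpotent_of_ker_le_center (QuotientGroup.mk' ((Subgroup.center G).subgroupOf M)) ?_
  intro z hz
  rw [QuotientGroup.ker_mk', Subgroup.mem_subgroupOf] at hz
  exact Subgroup.mem_center_iff.mpr fun g => Subtype.ext (Subgroup.mem_center_iff.mp hz g)

theorem sum_inv_sq_le (N : ℕ) (hN : 2 ≤ N) :
    ∑ k ∈ Finset.Icc 2 N, (1 : ℚ) / (k : ℚ) ^ 2 ≤ 3 / 4 - 1 / N := by
  induction N, hN using Nat.le_induction with
  | base => norm_num
  | succ N hN ih =>
    rw [Finset.sum_Icc_succ_top (by omega)]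
    have h0 : (0 : ℚ) < N := by positivity
    have h1 : (1 : ℚ) / ((N + 1 : ℕ) : ℚ) ^ 2 ≤ 1 / N - 1 / ((N + 1 : ℕ) : ℚ) := by
      push_cast
      rw [div_sub_div _ _ h0.ne' (by positivity), div_le_div_iff₀ (by positivity) (by positivity)]
      nlinarith
    linarith

/-- The set of maximal centralisers. -/
def IsMax (M : Subgroup G) : Prop :=
  ∃ x, x ∉ Subgroup.center G ∧ M = Subgroup.centralizer ({x} : Set G)

variable (h : AllMax G)
include h

/-- Solubility. -/
theorem isSolvable : Group.IsSolvable G := by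
  classical
  by_contra hns
  haveI := Fintype.ofFinite G
  -- reductions
  have hnilp : ∀ p : ℕ, p.Prime → (∀ y : G, ∃ k : ℕ, y ^ p ^ k ∈ Subgroup.center G) → False := by
    intro p hp hall
    haveI := Fact.mk hp
    haveI := isNilpotent_of_pgroup_mod_center (M := (⊤ : Subgroup G)) (fun y _ => hall y)
    haveI : Group.IsNilpotent G := Group.nilpotent_of_mulEquiv Subgroup.topEquiv
    exact hns inferInstance
  have hcoatom : ∀ M : Subgroup G, IsMax M → IsCoatom M := fun M ⟨x, hx, hM⟩ => hM ▸ h x hx
  have hnormal : ∀ M : Subgroup G, IsMax M → Subgroup.normalizer (M : Set G) = M := by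
    intro M hM
    refine ((hcoatom M hM).le_iff.mp Subgroup.le_normalizer).resolve_left fun htop => hns ?_
    haveI hMn : M.Normal := Subgroup.normalizer_eq_top_iff.mp htop
    obtain ⟨g, hg⟩ : ∃ g, g ∉ M := by
      by_contra hcon
      push Not at hcon
      exact (hcoatom M hM).1 (eq_top_iff.mpr fun g _ => hcon g)
    have hsup : M ⊔ Subgroup.zpowers g = ⊤ := (hcoatom M hM).2 _ (left_lt_sup.mpr fun hle =>
      hg (hle (Subgroup.mem_zpowers g)))
    haveI : Group.IsSolvable M := by
      obtain ⟨x, hx, hxM⟩ := hM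
      rcases comm_or_pgroup h hx hxM with hc | ⟨p, hp, hall⟩
      · letI : CommGroup M :=
          { (inferInstance : Group M) with mul_comm := fun a b => Subtype.ext (hc a a.2 b b.2) }
        infer_instance
      · haveI := Fact.mk hp
        haveI := isNilpotent_of_pgroup_mod_center hall
        infer_instance
    have hcyc : IsCyclic (G ⧸ M) := by
      refine ⟨⟨(g : G ⧸ M), fun q => ?_⟩⟩
      obtain ⟨y, rfl⟩ := QuotientGroup.mk_surjective q
      have hy : y ∈ ((Subgroup.zpowers g ⊔ M : Subgroup G) : Set G) := by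
        rw [sup_comm, hsup]; exact Subgroup.mem_top y
      rw [Subgroup.mul_normal] at hy
      obtain ⟨a, ⟨i, rfl⟩, b, hb, rfl⟩ := hy
      refine ⟨i, ?_⟩
      show (g : G ⧸ M) ^ i = ((g ^ i * b : G) : G ⧸ M)
      rw [← QuotientGroup.mk_zpow, QuotientGroup.mk_mul_of_mem _ hb]
    letI : CommGroup (G ⧸ M) := IsCyclic.commGroup
    exact Group.isSolvable_of_ker_le_range M.subtype (QuotientGroup.mk' M)
      (by rw [QuotientGroup.ker_mk', Subgroup.range_subtype])
  let A : Subgroup G → Subgroup G := fun M => Subgroup.centralizer (M : Set G)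
  have hAM : ∀ M, IsMax M → A M ≤ M := by
    rintro M ⟨x, hx, rfl⟩ g hg
    exact mem_cent.mpr (Subgroup.mem_centralizer_iff.mp hg x (mem_cent.mpr rfl)).symm
  have hZA : ∀ M, Subgroup.center G ≤ A M := fun M => Subgroup.center_le_centralizer _
  have hZM : ∀ M, IsMax M → Subgroup.center G ≤ M := fun M hM => (hZA M).trans (hAM M hM)
  -- conjugates
  have hconjMax : ∀ (g : G) (M : Subgroup G), IsMax M → IsMax (MulAut.conj g • M) := by
    rintro g M ⟨x, hx, rfl⟩
    refine ⟨g * x * g⁻¹, fun hc => hx ?_, (cent_conj g x).symm⟩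
    have := (inferInstance : (Subgroup.center G).Normal).conj_mem _ hc g⁻¹
    simpa [mul_assoc] using this
  letI : MulAction G (Subgroup G) := MulAction.compHom _ (MulAut.conj : G →* MulAut G)
  have hsmul : ∀ (g : G) (M : Subgroup G), g • M = MulAut.conj g • M := fun _ _ => rfl
  have hstab : ∀ M : Subgroup G, MulAction.stabilizer G M = Subgroup.normalizer (M : Set G) := fun M => by
    ext g
    rw [MulAction.mem_stabilizer_iff, Subgroup.mem_normalizer_iff_map_conj_eq]
    rfl
  have horbit : ∀ M, IsMax M → (MulAction.orbit G M).ncard = M.index := fun M hM => by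
    rw [← MulAction.index_stabilizer, hstab, hnormal M hM]
  have hcardconj : ∀ (g : G) (M : Subgroup G), Nat.card (g • M : Subgroup G) = Nat.card M := fun g M =>
    Subgroup.card_map_of_injective (MulAut.conj g).injective
  -- counting
  set z := Nat.card (Subgroup.center G) with hz
  let 𝓜 : Finset (Subgroup G) := (Finset.univ.filter fun x : G => x ∉ Subgroup.center G).image
    fun x => Subgroup.centralizer ({x} : Set G)
  have hmem : ∀ M, M ∈ 𝓜 ↔ IsMax M := fun M => by
    simp only [𝓜, Finset.mem_image, Finset.mem_filter, Finset.mem_univ, true_and]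
    exact ⟨fun ⟨x, hx, hM⟩ => ⟨x, hx, hM.symm⟩, fun ⟨x, hx, hM⟩ => ⟨x, hx, hM.symm⟩⟩
  have hweight : ∀ M, IsMax M → (Finset.univ.filter fun y : G => y ∉ Subgroup.center G ∧
      Subgroup.centralizer ({y} : Set G) = M).card + z = Nat.card (A M) := by
    intro M hM
    obtain ⟨x, hx, hxM⟩ := id hM
    have e : (Finset.univ.filter fun y : G => y ∈ A M) =
        (Finset.univ.filter fun y : G => y ∉ Subgroup.center G ∧
          Subgroup.centralizer ({y} : Set G) = M) ∪ (Finset.univ.filter fun y : G => y ∈ Subgroup.center G) := by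
      ext y
      simp only [Finset.mem_union, Finset.mem_filter, Finset.mem_univ, true_and]
      by_cases hy : y ∈ Subgroup.center G
      · simp [hy, hZA M hy]
      · simp only [hy, not_false_iff, true_and, or_false]
        exact (cent_eq_iff h hx hxM hy).symm
    have hc := congrArg Finset.card e
    rw [Finset.card_union_of_disjoint (Finset.disjoint_filter.mpr fun y _ h1 h2 => h1.1 h2)] at hc
    rw [hz, Nat.card_eq_fintype_card, Nat.card_eq_fintype_card, Fintype.card_subtype, Fintype.card_subtype]
    exact hc.symm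
  let w : Subgroup G → ℕ := fun M => (Finset.univ.filter fun y : G => y ∉ Subgroup.center G ∧
      Subgroup.centralizer ({y} : Set G) = M).card
  have htotal : ∑ M ∈ 𝓜, w M + z = Nat.card G := by
    have h1 := Finset.card_eq_sum_card_fiberwise (f := fun y : G => Subgroup.centralizer ({y} : Set G))
      (s := Finset.univ.filter fun y : G => y ∉ Subgroup.center G) (t := 𝓜)
      (fun y hy => Finset.mem_image_of_mem _ hy)
    simp only [Finset.filter_filter] at h1
    have h2 := Finset.card_filter_add_card_filter_not (s := (Finset.univ : Finset G))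
      (p := fun y => y ∈ Subgroup.center G)
    rw [Finset.card_univ, h1] at h2
    rw [hz, Nat.card_eq_fintype_card, Nat.card_eq_fintype_card, Fintype.card_subtype, ← h2, add_comm]
  -- the nonabelian members
  have hnonab : ∀ M : Subgroup G, IsMax M → (¬ ∀ u ∈ M, ∀ v ∈ M, u * v = v * u) →
      ∃ p : ℕ, p.Prime ∧ p ^ 2 * Nat.card (A M) ≤ Nat.card M ∧
        ∃ P : Sylow p G, M = Subgroup.center G ⊔ P := by
    intro M hM hnc
    obtain ⟨x, hx, hxM⟩ := id hM
    obtain ⟨p, hp, hall⟩ := (comm_or_pgroup h hx hxM).resolve_left hnc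
    haveI := Fact.mk hp
    refine ⟨p, hp, ?_, ?_⟩
    · obtain ⟨k, hk⟩ := relIndex_center_eq_pow hall
      have hd : (A M).relIndex M ∣ p ^ k := hk ▸ Subgroup.relIndex_dvd_of_le_left M (hZA M)
      obtain ⟨j, -, hj⟩ := (Nat.dvd_prime_pow hp).mp hd
      have hcenter : (A M).subgroupOf M = Subgroup.center M := by
        ext u
        rw [Subgroup.mem_subgroupOf, Subgroup.mem_center_iff, Subgroup.mem_centralizer_iff]
        exact ⟨fun hu v => Subtype.ext (hu v v.2), fun hu v hv => congrArg Subtype.val (hu ⟨v, hv⟩)⟩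
      have hj2 : 2 ≤ j := by
        by_contra hj2
        have hcyc : IsCyclic (M ⧸ Subgroup.center M) := by
          have hcard : Nat.card (M ⧸ Subgroup.center M) = p ^ j := by
            rw [← hj, ← hcenter]; rfl
          interval_cases j
          · haveI : Subsingleton (M ⧸ Subgroup.center M) :=
              (Nat.card_eq_one_iff_unique.mp (by rw [hcard, pow_zero])).1
            exact isCyclic_of_subsingleton
          · exact isCyclic_of_prime_card (p := p) (by rw [hcard, pow_one])
        refine hnc fun u hu v hv => congrArg Subtype.val (commutative_of_cyclic_center_quotient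
          (QuotientGroup.mk' (Subgroup.center M)) (by rw [QuotientGroup.ker_mk']) ⟨u, hu⟩ ⟨v, hv⟩)
      have e := Subgroup.card_mul_index ((A M).subgroupOf M)
      rw [Nat.card_congr (Subgroup.subgroupOfEquivOfLe (hAM M hM)).toEquiv] at e
      rw [← e, show ((A M).subgroupOf M).index = p ^ j from hj, mul_comm (p ^ 2)]
      exact Nat.mul_le_mul_left _ (Nat.pow_le_pow_right hp.pos hj2)
    · obtain ⟨S⟩ : Nonempty (Sylow p M) := inferInstance
      set S₁ : Subgroup G := (S : Subgroup M).map M.subtype
      obtain ⟨P, hP⟩ := (S.2.map M.subtype : IsPGroup p S₁).exists_le_sylow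
      have hS₁M : S₁ ≤ M := Subgroup.map_subtype_le _
      have hle : M ≤ Subgroup.center G ⊔ P := by
        refine le_trans (Subgroup.relIndex_eq_one.mp ?_) (sup_le_sup_left hP _)
        obtain ⟨k, hk⟩ := relIndex_center_eq_pow hall
        have h1 : (Subgroup.center G ⊔ S₁).relIndex M ∣ p ^ k :=
          hk ▸ Subgroup.relIndex_dvd_of_le_left M le_sup_left
        have h2 : (Subgroup.center G ⊔ S₁).relIndex M ∣ (S : Subgroup M).index := by
          refine (Subgroup.relIndex_dvd_of_le_left M le_sup_right).trans ?_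
          show (S₁.subgroupOf M).index ∣ _
          rw [show S₁.subgroupOf M = (S : Subgroup M) from Subgroup.comap_map_eq_self_of_injective M.subtype_injective _]
        exact Nat.eq_one_of_dvd_coprimes ((hp.coprime_iff_not_dvd.mpr S.not_dvd_index).pow_left k) h1 h2
      refine ⟨P, le_antisymm hle ?_⟩
      rcases (hcoatom M hM).le_iff.mp hle with ht | ht
      · refine absurd ht fun ht => hnilp p hp fun y => ?_
        have hy : y ∈ (((P : Subgroup G) ⊔ Subgroup.center G : Subgroup G) : Set G) := by
          rw [sup_comm, ht]; exact Subgroup.mem_top y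
        rw [Subgroup.mul_normal] at hy
        obtain ⟨a, ha, b, hb, rfl⟩ := hy
        obtain ⟨k, hk⟩ := IsPGroup.iff_card.mp P.2
        refine ⟨k, ?_⟩
        have hab : Commute a b := Subgroup.mem_center_iff.mp hb a
        rw [hab.mul_pow]
        refine Subgroup.mul_mem _ ?_ (Subgroup.pow_mem _ hb _)
        have : a ^ p ^ k = 1 := by
          have := pow_card_eq_one' (x := (⟨a, ha⟩ : (P : Subgroup G)))
          rw [hk] at this
          simpa using congrArg Subtype.val this
        rw [this]
        exact Subgroup.one_mem _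
      · exact ht.le
  -- a commutative member forces all members to be commutative
  have hab : ∀ M : Subgroup G, IsMax M → (∀ u ∈ M, ∀ v ∈ M, u * v = v * u) →
      ∀ N : Subgroup G, IsMax N → ∀ u ∈ N, ∀ v ∈ N, u * v = v * u := by
    intro M hM hMc N hN
    by_contra hNc
    obtain ⟨p, hp, -, P, hP⟩ := hnonab N hN hNc
    haveI := Fact.mk hp
    obtain ⟨x, hx, hxM⟩ := id hM
    have hcentM : ∀ y ∈ M, y ∉ Subgroup.center G → Subgroup.centralizer ({y} : Set G) = M := fun y hy hyc =>
      cent_eq h hx hxM hyc fun g hg => mem_cent.mpr (hMc g hg y hy)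
    have hTI : ∀ y ∈ M, y ∉ Subgroup.center G → ∀ g : G, g * y * g⁻¹ ∈ M → g ∈ M := by
      intro y hy hyc g hg
      have hgc : g * y * g⁻¹ ∉ Subgroup.center G := fun hc => hyc (by
        simpa [mul_assoc] using (inferInstance : (Subgroup.center G).Normal).conj_mem _ hc g⁻¹)
      have h1 := hcentM _ hg hgc
      rw [cent_conj, hcentM y hy hyc, ← hsmul] at h1
      rw [← hnormal M hM, ← hstab]
      exact h1
    have hcop : Nat.Coprime M.index ((Subgroup.center G).relIndex M) := by
      refine Nat.coprime_of_dvd fun r hr hr1 hr2 => ?_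
      haveI := Fact.mk hr
      obtain ⟨S⟩ : Nonempty (Sylow r M) := inferInstance
      set S₁ : Subgroup G := (S : Subgroup M).map M.subtype
      obtain ⟨R, hR⟩ := (S.2.map M.subtype : IsPGroup r S₁).exists_le_sylow
      have hS₁M : S₁ ≤ M := Subgroup.map_subtype_le _
      have hSne : ¬ S₁ ≤ Subgroup.center G := by
        intro hle
        refine S.not_dvd_index (hr2.trans ?_)
        have := Subgroup.relIndex_dvd_of_le_left M hle
        rwa [show S₁.relIndex M = (S : Subgroup M).index from
          congrArg Subgroup.index (Subgroup.comap_map_eq_self_of_injective M.subtype_injective _)] at this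
      obtain ⟨y, hy, hyc⟩ := SetLike.not_le_iff_exists.mp hSne
      have hne : S₁ ≠ (R : Subgroup G) := by
        intro e
        refine R.not_dvd_index ?_
        rw [← e, Subgroup.index_map_subtype]
        exact Dvd.dvd.mul_left hr1 _
      have hlt : S₁ < (R : Subgroup G) := lt_of_le_of_ne hR hne
      haveI : Group.IsNilpotent (R : Subgroup G) := R.2.isNilpotent
      have hlt' : S₁.subgroupOf R < ⊤ := lt_top_iff_ne_top.mpr fun e =>
        hne (le_antisymm hR (Subgroup.subgroupOf_eq_top.mp e))
      obtain ⟨g, hg1, hg2⟩ := SetLike.exists_of_lt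
        (Group.normalizerCondition_of_isNilpotent (G := (R : Subgroup G)) _ hlt')
      have hgy : (g : G) * y * (g : G)⁻¹ ∈ S₁ := by
        have := (Subgroup.mem_normalizer_iff.mp hg1 ⟨y, hR hy⟩).mp (Subgroup.mem_subgroupOf.mpr hy)
        simpa [Subgroup.mem_subgroupOf] using this
      have hgM : (g : G) ∈ M := hTI y (hS₁M hy) hyc g (hS₁M hgy)
      refine hg2 ?_
      -- `g` is an `r`-element of `M` normalising the Sylow subgroup `S₁`
      have hgS : (⟨g, hgM⟩ : M) ∈ (S : Subgroup M) := by
        have hgn : (⟨g, hgM⟩ : M) ∈ Subgroup.normalizer ((S : Subgroup M) : Set M) := by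
          rw [Subgroup.mem_normalizer_iff]
          intro u
          have h3 := Subgroup.mem_normalizer_iff.mp hg1
          constructor
          · intro hu
            have hu' : (u : G) ∈ S₁ := ⟨u, hu, rfl⟩
            have := (h3 ⟨u, hR hu'⟩).mp (Subgroup.mem_subgroupOf.mpr hu')
            rw [Subgroup.mem_subgroupOf] at this
            obtain ⟨v, hv, hve⟩ := this
            rwa [show v = (⟨g, hgM⟩ : M) * u * (⟨g, hgM⟩ : M)⁻¹ from Subtype.ext (by simpa using hve)] at hv
          · intro hu
            have hu' : (g : G) * u * (g : G)⁻¹ ∈ S₁ := ⟨_, hu, by simp⟩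
            have huR : (u : G) ∈ (R : Subgroup G) := by
              have := (R : Subgroup G).mul_mem ((R : Subgroup G).mul_mem ((R : Subgroup G).inv_mem g.2) (hR hu')) g.2
              simpa [mul_assoc] using this
            have := (h3 ⟨u, huR⟩).mpr (Subgroup.mem_subgroupOf.mpr (by simpa using hu'))
            rw [Subgroup.mem_subgroupOf] at this
            obtain ⟨v, hv, hve⟩ := this
            rwa [show v = u from Subtype.ext hve] at hv
        have hz2 : IsPGroup r (Subgroup.zpowers (⟨g, hgM⟩ : M)) := by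
          intro v
          obtain ⟨v, i, rfl⟩ := v
          obtain ⟨k, hk⟩ := R.2 g
          refine ⟨k, Subtype.ext (Subtype.ext ?_)⟩
          have hk' : (g : G) ^ r ^ k = 1 := by simpa using congrArg Subtype.val hk
          show ((g : G) ^ i) ^ r ^ k = 1
          rw [← zpow_natCast, ← zpow_mul, mul_comm, zpow_mul, zpow_natCast, hk', one_zpow]
        have h4 : (⟨g, hgM⟩ : M) ∈ Subgroup.zpowers (⟨g, hgM⟩ : M) ⊓ Subgroup.normalizer ((S : Subgroup M) : Set M) :=
          ⟨Subgroup.mem_zpowers _, hgn⟩
        rw [Sylow.coe_coe, IsPGroup.inf_normalizer_sylow hz2] at h4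
        exact h4.2
      exact Subgroup.mem_subgroupOf.mpr ⟨_, hgS, rfl⟩
    -- transfer into `M` modulo the centre
    letI : CommGroup M := { (inferInstance : Group M) with mul_comm := fun a b => Subtype.ext (hMc a a.2 b b.2) }
    let ϕ : M →* M ⧸ (Subgroup.center G).subgroupOf M := QuotientGroup.mk' _
    let ψ : G →* M ⧸ (Subgroup.center G).subgroupOf M := MonoidHom.transfer ϕ
    have hψ : ∀ y (hy : y ∈ M), ψ y = ϕ ⟨y ^ M.index, M.pow_mem hy _⟩ := by
      intro y hy
      refine MonoidHom.transfer_eq_pow ϕ y fun k g₀ hk => ?_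
      by_cases hc : y ^ k ∈ Subgroup.center G
      · rw [Subgroup.mem_center_iff.mp hc g₀⁻¹, inv_mul_cancel_right]
      · have hg₀ : g₀⁻¹ ∈ M := hTI _ (M.pow_mem hy k) hc g₀⁻¹ (by rwa [inv_inv])
        rw [← hMc _ (M.pow_mem hy k) _ hg₀, inv_mul_cancel_right]
    have hsurj : Function.Surjective ψ := by
      intro q
      have hcq : (Nat.card (M ⧸ (Subgroup.center G).subgroupOf M)).Coprime M.index := hcop.symm
      obtain ⟨q', hq'⟩ := (powCoprime hcq).surjective q
      obtain ⟨u, rfl⟩ := QuotientGroup.mk_surjective q'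
      refine ⟨u, ?_⟩
      rw [hψ u u.2, ← hq']
      show _ = (QuotientGroup.mk u : M ⧸ (Subgroup.center G).subgroupOf M) ^ M.index
      rw [← QuotientGroup.mk_pow]
      rfl
    set K := ψ.ker with hK
    have hKidx : K.index = (Subgroup.center G).relIndex M := by
      rw [hK, Subgroup.index_ker, MonoidHom.range_eq_top.mpr hsurj, Subgroup.card_top]
      rfl
    have hKne : K ≠ ⊤ := by
      intro e
      rw [e, Subgroup.index_top] at hKidx
      exact hx ((Subgroup.relIndex_eq_one.mp hKidx.symm) (hxM ▸ mem_cent.mpr rfl))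
    by_cases hpd : p ∣ K.index
    · rw [hKidx] at hpd
      obtain ⟨S⟩ : Nonempty (Sylow p M) := inferInstance
      have hnd : ¬ p ∣ ((S : Subgroup M).map M.subtype).index := by
        rw [Subgroup.index_map_subtype]
        refine hp.not_dvd_mul S.not_dvd_index fun hd => ?_
        have := Nat.dvd_gcd hd hpd
        rw [hcop] at this
        exact hp.not_dvd_one this
      obtain ⟨g, hg⟩ := MulAction.exists_smul_eq G P ((S.2.map M.subtype).toSylow hnd)
      have hle : MulAut.conj g • N ≤ M := by
        rw [hP, Subgroup.smul_sup, Subgroup.Normal.conj_smul_eq_self g (Subgroup.center G)]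
        refine sup_le (hZM M hM) ?_
        rw [← Sylow.coe_subgroup_smul, hg]
        exact Subgroup.map_subtype_le _
      have heq : MulAut.conj g • N = M :=
        (((hcoatom _ (hconjMax g N hN)).le_iff.mp hle).resolve_left (hcoatom M hM).1).symm
      refine hNc fun u hu v hv => ?_
      have h1 : MulAut.conj g u ∈ M := heq ▸ Subgroup.smul_mem_pointwise_smul u _ _ hu
      have h2 : MulAut.conj g v ∈ M := heq ▸ Subgroup.smul_mem_pointwise_smul v _ _ hv
      exact (MulAut.conj g).injective (by rw [map_mul, map_mul]; exact hMc _ h1 _ h2)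
    · have hPK : (P : Subgroup G) ≤ K := by
        rw [← Subgroup.relIndex_eq_one]
        obtain ⟨k, hk⟩ := IsPGroup.iff_card.mp P.2
        exact Nat.eq_one_of_dvd_coprimes ((hp.coprime_iff_not_dvd.mpr hpd).pow_left k)
          (hk ▸ Subgroup.relIndex_dvd_card K (P : Subgroup G)) (Subgroup.relIndex_dvd_index_of_normal K _)
      have hZK : Subgroup.center G ≤ K := by
        intro u hu
        rw [hK, MonoidHom.mem_ker, hψ u (hZM M hM hu)]
        exact (QuotientGroup.eq_one_iff _).mpr (Subgroup.mem_subgroupOf.mpr (Subgroup.pow_mem _ hu _))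
      have hNK : N ≤ K := hP ▸ sup_le hZK hPK
      have hnormP : Subgroup.normalizer ((P : Subgroup G) : Set G) ≤ N := by
        intro g hg
        rw [← hnormal N hN, Subgroup.mem_normalizer_iff_map_conj_eq, hP, Subgroup.map_sup,
          Subgroup.mem_normalizer_iff_map_conj_eq.mp hg]
        congr 1
        exact Subgroup.Normal.conj_smul_eq_self g (Subgroup.center G)
      have htop := Sylow.normalizer_sup_eq_top' P hPK
      exact hKne (top_le_iff.mp (htop ▸ sup_le ((P.coe_coe ▸ hnormP).trans hNK) le_rfl))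
  by_cases hexab : ∃ M : Subgroup G, IsMax M ∧ ∀ u ∈ M, ∀ v ∈ M, u * v = v * u
  · obtain ⟨M₀, hM₀, hc₀⟩ := hexab
    have hall := hab M₀ hM₀ hc₀
    have hw : ∀ M, IsMax M → w M + z = Nat.card M := by
      intro M hM
      have e : A M = M := le_antisymm (hAM M hM) fun u hu =>
        Subgroup.mem_centralizer_iff.mpr fun v hv => hall M hM v hv u hu
      have := hweight M hM
      rwa [e] at this
    let cl : Subgroup G → Finset (Subgroup G) := fun M => 𝓜.filter (fun N => N ∈ MulAction.orbit G M)
    have hcl : ∀ M, IsMax M → ∑ N ∈ cl M, w N + M.index * z = Nat.card G ∧ 2 * (M.index * z) ≤ Nat.card G := by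
      intro M hM
      have hcard : (cl M).card = M.index := by
        rw [← horbit M hM, ← Set.ncard_coe_finset]
        congr 1
        ext N
        simp only [cl, Finset.coe_filter, Set.mem_setOf_eq, hmem]
        refine ⟨fun hN => hN.2, fun hN => ⟨?_, hN⟩⟩
        obtain ⟨g, rfl⟩ := hN
        exact hconjMax g M hM
      have hconst : ∀ N ∈ cl M, w N + z = Nat.card M := by
        intro N hN
        simp only [cl, Finset.mem_filter, hmem] at hN
        obtain ⟨g, hg⟩ := hN.2
        rw [hw N hN.1, ← hg]
        exact hcardconj g M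
      have hsum : ∑ N ∈ cl M, (w N + z) = M.index * Nat.card M := by
        rw [Finset.sum_congr rfl hconst, Finset.sum_const, hcard, smul_eq_mul]
      rw [Finset.sum_add_distrib, Finset.sum_const, hcard, smul_eq_mul, M.index_mul_card] at hsum
      refine ⟨hsum, ?_⟩
      have h2 : 2 * z ≤ Nat.card M := by
        have e := Subgroup.card_mul_index ((Subgroup.center G).subgroupOf M)
        rw [Nat.card_congr (Subgroup.subgroupOfEquivOfLe (hZM M hM)).toEquiv, ← hz] at e
        rw [← e, mul_comm 2 z]
        refine Nat.mul_le_mul_left _ ?_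
        obtain ⟨x, hx, hxM⟩ := hM
        by_contra hlt
        have h0 : ((Subgroup.center G).subgroupOf M).index ≠ 0 := Subgroup.index_ne_zero_of_finite
        exact hx ((Subgroup.relIndex_eq_one.mp (show (Subgroup.center G).relIndex M = 1 from by
          show ((Subgroup.center G).subgroupOf M).index = 1
          omega)) (hxM ▸ mem_cent.mpr rfl))
      calc 2 * (M.index * z) = M.index * (2 * z) := by ring
        _ ≤ M.index * Nat.card M := Nat.mul_le_mul_left _ h2
        _ = _ := M.index_mul_card
    obtain ⟨hs0, hb0⟩ := hcl M₀ hM₀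
    have hzpos : 0 < z := Nat.card_pos
    by_cases hone : ∀ N ∈ 𝓜, N ∈ MulAction.orbit G M₀
    · have he : cl M₀ = 𝓜 := Finset.filter_true_of_mem hone
      rw [he] at hs0
      have h1 : M₀.index * z = 1 * z := by omega
      exact (hcoatom M₀ hM₀).1 (Subgroup.index_eq_one.mp (Nat.eq_of_mul_eq_mul_right hzpos h1))
    · push Not at hone
      obtain ⟨M₁, hM₁, hne⟩ := hone
      obtain ⟨hs1, hb1⟩ := hcl M₁ ((hmem _).mp hM₁)
      have hdisj : Disjoint (cl M₀) (cl M₁) := by
        rw [Finset.disjoint_filter]
        intro N _ h1 h2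
        exact hne (MulAction.orbit_eq_iff.mp ((MulAction.orbit_eq_iff.mpr h2).symm.trans (MulAction.orbit_eq_iff.mpr h1)))
      have hle : ∑ N ∈ cl M₀, w N + ∑ N ∈ cl M₁, w N ≤ ∑ N ∈ 𝓜, w N := by
        rw [← Finset.sum_union hdisj]
        exact Finset.sum_le_sum_of_subset (Finset.union_subset (Finset.filter_subset _ _) (Finset.filter_subset _ _))
      omega
  · push Not at hexab
    have hna : ∀ M : Subgroup G, IsMax M → ¬ ∀ u ∈ M, ∀ v ∈ M, u * v = v * u := fun M hM hc => by
      obtain ⟨u, hu, v, hv, hne⟩ := hexab M hM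
      exact hne (hc u hu v hv)
    let π : Subgroup G → ℕ := fun M => if hM : IsMax M then (hnonab M hM (hna M hM)).choose else 2
    have hπ : ∀ M, IsMax M → (π M).Prime ∧ π M ^ 2 * Nat.card (A M) ≤ Nat.card M ∧
        ∃ P : Sylow (π M) G, M = Subgroup.center G ⊔ P := by
      intro M hM
      rw [show π M = (hnonab M hM (hna M hM)).choose from dif_pos hM]
      exact (hnonab M hM (hna M hM)).choose_spec
    have hfib : ∀ p ∈ 𝓜.image π, (p : ℕ) ^ 2 * ∑ M ∈ 𝓜.filter (fun M => π M = p), w M ≤ Nat.card G := by
      intro p hp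
      obtain ⟨M₀, hM₀', rfl⟩ := Finset.mem_image.mp hp
      have hM₀ := (hmem _).mp hM₀'
      obtain ⟨hp0, -, P₀, hP₀⟩ := hπ M₀ hM₀
      haveI := Fact.mk hp0
      have hsub : ∀ M ∈ 𝓜.filter (fun M => π M = π M₀), M ∈ MulAction.orbit G M₀ := by
        intro M hM
        rw [Finset.mem_filter] at hM
        obtain ⟨-, -, P, hP⟩ := hπ M ((hmem _).mp hM.1)
        revert P
        rw [hM.2]
        intro P hP
        obtain ⟨g, hg⟩ := MulAction.exists_smul_eq G P₀ P
        refine ⟨g, ?_⟩
        show MulAut.conj g • M₀ = M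
        rw [hP₀, Subgroup.smul_sup, Subgroup.Normal.conj_smul_eq_self g (Subgroup.center G),
          ← Sylow.coe_subgroup_smul, hg, hP]
      have hcard : (𝓜.filter (fun M => π M = π M₀)).card ≤ M₀.index := by
        rw [← horbit M₀ hM₀, ← Set.ncard_coe_finset]
        exact Set.ncard_le_ncard (fun M hM => hsub M hM) (Set.toFinite _)
      rw [Finset.mul_sum, ← M₀.index_mul_card]
      refine le_trans (Finset.sum_le_card_nsmul _ _ (Nat.card M₀) fun M hM => ?_)
        (by rw [smul_eq_mul]; exact Nat.mul_le_mul_right _ hcard)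
      obtain ⟨g, hg⟩ := hsub M hM
      rw [Finset.mem_filter] at hM
      have hM' := (hmem _).mp hM.1
      have h1 := (hπ M hM').2.1
      have h2 : w M + z = Nat.card (A M) := hweight M hM'
      rw [← hM.2]
      calc π M ^ 2 * w M ≤ π M ^ 2 * Nat.card (A M) := Nat.mul_le_mul_left _ (by omega)
        _ ≤ Nat.card M := h1
        _ = Nat.card M₀ := by rw [← hg]; exact hcardconj g M₀
    have hbound : (∑ M ∈ 𝓜, w M : ℕ) * 4 ≤ Nat.card G * 3 := by
      rw [← Finset.sum_fiberwise_of_maps_to (g := π) (t := 𝓜.image π) (fun M hM => Finset.mem_image_of_mem π hM) w]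
      set T := 𝓜.image π
      obtain ⟨N, hN2, hTN⟩ : ∃ N, 2 ≤ N ∧ T ⊆ Finset.Icc 2 N := by
        refine ⟨T.sup id + 2, by omega, fun p hp => ?_⟩
        obtain ⟨M, hM, rfl⟩ := Finset.mem_image.mp hp
        have h1 := (hπ M ((hmem _).mp hM)).1.two_le
        have h2 : π M ≤ T.sup id := Finset.le_sup (f := id) hp
        rw [Finset.mem_Icc]; omega
      have hq : ((∑ p ∈ T, ∑ M ∈ 𝓜.filter (fun M => π M = p), w M : ℕ) : ℚ) ≤ (Nat.card G : ℚ) * (3 / 4) := by
        rw [Nat.cast_sum]
        calc ∑ p ∈ T, ((∑ M ∈ 𝓜.filter (fun M => π M = p), w M : ℕ) : ℚ)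
            ≤ ∑ p ∈ T, (Nat.card G : ℚ) * (1 / (p : ℚ) ^ 2) := by
              refine Finset.sum_le_sum fun p hp => ?_
              obtain ⟨M, hM, hMp⟩ := Finset.mem_image.mp hp
              have hpos : (0 : ℚ) < (p : ℚ) ^ 2 := by
                have := (hπ M ((hmem _).mp hM)).1.pos
                rw [hMp] at this
                positivity
              rw [mul_one_div, le_div_iff₀ hpos]
              have := hfib p hp
              rw [mul_comm] at this
              exact_mod_cast this
          _ ≤ ∑ p ∈ Finset.Icc 2 N, (Nat.card G : ℚ) * (1 / (p : ℚ) ^ 2) :=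
              Finset.sum_le_sum_of_subset_of_nonneg hTN fun _ _ _ => by positivity
          _ ≤ (Nat.card G : ℚ) * (3 / 4) := by
              rw [← Finset.mul_sum]
              refine mul_le_mul_of_nonneg_left ((sum_inv_sq_le N hN2).trans ?_) (by positivity)
              exact sub_le_self _ (by positivity)
      have : ((∑ p ∈ T, ∑ M ∈ 𝓜.filter (fun M => π M = p), w M : ℕ) : ℚ) * 4 ≤ (Nat.card G : ℚ) * 3 := by
        linarith
      exact_mod_cast this
    -- the index of the centre is at most four
    have hidx : (Subgroup.center G).index ≤ 4 := by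
      by_contra hlt
      have e := Subgroup.card_mul_index (Subgroup.center G)
      rw [← hz] at e
      have : z * 5 ≤ Nat.card G := e ▸ Nat.mul_le_mul_left _ (by omega)
      have hzpos : 0 < z := Nat.card_pos
      omega
    have hidx0 : (Subgroup.center G).index ≠ 0 := Subgroup.index_ne_zero_of_finite
    have hpow : ∀ (p k : ℕ), p.Prime → (Subgroup.center G).index = p ^ k → False := fun p k hp hk =>
      hnilp p hp fun y => ⟨k, by
        rw [← hk]
        exact Subgroup.pow_index_mem _ y⟩
    set i := (Subgroup.center G).index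
    interval_cases i
    · exact absurd rfl hidx0
    · exact hpow 2 0 Nat.prime_two (by norm_num)
    · exact hpow 2 1 Nat.prime_two (by norm_num)
    · exact hpow 3 1 Nat.prime_three (by norm_num)
    · exact hpow 2 2 Nat.prime_two (by norm_num)

end CfsgLib.CentMax
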